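import Mathlib
import Groth.Agent.H69.DirColim
import Groth.Agent.H15.NilPair.Base
import Groth.Agent.H15.NilPair.Sys

set_option autoImplicit false
universe u
open CategoryTheory MvPolynomial

namespace Groth.Agent.H15.IntPair
open Groth.Agent.H69
open Groth.Agent.H15.NilPair (PS IT Cq mkq mkq_surjective mkq_eq_zero mkq_eq_zero_iff fp tr tr_mkq
  tr_refl tr_trans toE toE_mkq toE_tr gen_top X_mem_PS PS_mono dirNat)
open scoped Classical

section raw
variable {A B C : Type u} [CommRing A]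

/-- Raw index: finite sets of variables and of relations. -/
structure Raw (A B C : Type u) [CommRing A] where
  Z : Finset B
  S : Finset C
  TB : Finset (MvPolynomial (B ⊕ C) A)
  TC : Finset (MvPolynomial (B ⊕ C) A)

instance : Preorder (Raw A B C) where
  le a b := a.Z ⊆ b.Z ∧ a.S ⊆ b.S ∧ a.TB ⊆ b.TB ∧ a.TC ⊆ b.TC
  le_refl a := ⟨subset_rfl, subset_rfl, subset_rfl, subset_rfl⟩
  le_trans a b c h1 h2 := ⟨h1.1.trans h2.1, h1.2.1.trans h2.2.1, h1.2.2.1.trans h2.2.2.1,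
    h1.2.2.2.trans h2.2.2.2⟩

namespace Raw
variable (j k : Raw A B C)

/-- variables of `B_j`. -/
def WB : Finset (B ⊕ C) := j.Z.disjSum ∅
/-- variables of `C_j`. -/
def WC : Finset (B ⊕ C) := j.Z.disjSum j.S
/-- relations of `C_j`. -/
noncomputable def TCC : Finset (MvPolynomial (B ⊕ C) A) := j.TC ∪ j.TB

variable {j k}
theorem WB_sub_WC : j.WB ⊆ j.WC := Finset.disjSum_mono subset_rfl (Finset.empty_subset _)
theorem WB_mono (h : j ≤ k) : j.WB ⊆ k.WB := Finset.disjSum_mono h.1 subset_rfl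
theorem WC_mono (h : j ≤ k) : j.WC ⊆ k.WC := Finset.disjSum_mono h.1 h.2.1
theorem TB_mono (h : j ≤ k) : j.TB ⊆ k.TB := h.2.2.1
theorem TC_mono (h : j ≤ k) : j.TC ⊆ k.TC := h.2.2.2
theorem TCC_mono (h : j ≤ k) : j.TCC ⊆ k.TCC := Finset.union_subset_union h.2.2.2 h.2.2.1
theorem TB_sub_TCC : j.TB ⊆ j.TCC := Finset.subset_union_right
theorem TC_sub_TCC : j.TC ⊆ j.TCC := Finset.subset_union_left
theorem inl_mem_WB {b : B} (hb : b ∈ j.Z) : (Sum.inl b : B ⊕ C) ∈ j.WB :=
  Finset.inl_mem_disjSum.mpr hb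
theorem inl_mem_WC {b : B} (hb : b ∈ j.Z) : (Sum.inl b : B ⊕ C) ∈ j.WC :=
  Finset.inl_mem_disjSum.mpr hb
theorem inr_mem_WC {c : C} (hc : c ∈ j.S) : (Sum.inr c : B ⊕ C) ∈ j.WC :=
  Finset.inr_mem_disjSum.mpr hc
theorem WC_eq_WB_of_S (h : j.S = ∅) : j.WC = j.WB := by
  unfold Raw.WC Raw.WB
  rw [h]
variable (j k)

/-- The stage algebras. -/
abbrev CB : Type u := Cq (A := A) j.WB j.TB
abbrev CC : Type u := Cq (A := A) j.WC j.TCC

/-- `φ_j : B_j → C_j`. -/
noncomputable def phi : j.CB →ₐ[A] j.CC := tr WB_sub_WC TB_sub_TCC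

end Raw
end raw

section defs
variable {A B C : Type u} [CommRing A] [CommRing B] [CommRing C] [Algebra A B] [Algebra A C]
  [Algebra B C] [IsScalarTower A B C]

/-- Evaluation to `B`: `B`-variables go to themselves, `C`-variables to `0` (never used). -/
noncomputable def evB (A B C : Type u) [CommRing A] [CommRing B] [Algebra A B] :
    MvPolynomial (B ⊕ C) A →ₐ[A] B :=
  aeval (Sum.elim id (fun _ => 0))

/-- Evaluation to `C`. -/
noncomputable def evC (A B C : Type u) [CommRing A] [CommRing B] [CommRing C] [Algebra A B]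
    [Algebra A C] [Algebra B C] : MvPolynomial (B ⊕ C) A →ₐ[A] C :=
  aeval (Sum.elim (algebraMap B C) id)

theorem evC_eq_evB {Z : Finset B} (g : MvPolynomial (B ⊕ C) A)
    (hg : g ∈ PS A (Z.disjSum (∅ : Finset C))) : evC A B C g = algebraMap B C (evB A B C g) := by
  have hg' : g ∈ MvPolynomial.supported A ((Z.disjSum (∅ : Finset C) : Finset _) : Set (B ⊕ C)) := hg
  rw [MvPolynomial.supported_eq_range_rename] at hg'
  obtain ⟨g', rfl⟩ := hg'
  simp only [evC, evB]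
  change (aeval _) (rename Subtype.val g') =
    (IsScalarTower.toAlgHom A B C) ((aeval _) (rename Subtype.val g'))
  rw [aeval_rename, aeval_rename, ← AlgHom.comp_apply, comp_aeval]
  congr 2
  funext ⟨v, hv⟩
  have hv' : v ∈ Z.disjSum (∅ : Finset C) := hv
  rcases Finset.mem_disjSum.mp hv' with ⟨p, hp, rfl⟩ | ⟨d, hd, rfl⟩
  · simp
  · exact absurd hd (Finset.notMem_empty d)

/-- Validity of an index. -/
def Valid (j : Raw A B C) : Prop :=
  (∀ t ∈ j.TB, t ∈ PS A j.WB ∧ evB A B C t = 0) ∧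
  (∀ t ∈ j.TC, t ∈ PS A j.WC ∧ evC A B C t = 0) ∧
  (∀ b (hb : b ∈ j.Z), (algebraMap A j.CB).IsIntegralElem
    (mkq j.WB j.TB ⟨X (Sum.inl b), X_mem_PS (Raw.inl_mem_WB hb)⟩)) ∧
  (∀ c (hc : c ∈ j.S), (algebraMap A j.CC).IsIntegralElem
    (mkq j.WC j.TCC ⟨X (Sum.inr c), X_mem_PS (Raw.inr_mem_WC hc)⟩)) ∧
  (Function.Surjective (algebraMap A B) → ∀ b (hb : b ∈ j.Z),
    mkq j.WB j.TB ⟨X (Sum.inl b), X_mem_PS (Raw.inl_mem_WB hb)⟩ ∈ (⊥ : Subalgebra A j.CB)) ∧
  (Function.Surjective (algebraMap B C) → j.S = ∅) ∧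
  (Function.Surjective (algebraMap A C) → ∀ b (hb : b ∈ j.Z),
    mkq j.WC j.TCC ⟨X (Sum.inl b), X_mem_PS (Raw.inl_mem_WC hb)⟩ ∈ (⊥ : Subalgebra A j.CC)) ∧
  (Function.Surjective (algebraMap B C) → IsNilpotent (RingHom.ker (algebraMap B C)) →
    ∀ x : PS A j.WB, (x : MvPolynomial (B ⊕ C) A) ∈ j.TC → IsNilpotent (mkq j.WB j.TB x))

variable (A B C)
/-- The index type. -/
abbrev J : Type u := {j : Raw A B C // Valid j}
variable {A B C}

abbrev FB (j : J A B C) : Type u := j.1.CB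
abbrev FC (j : J A B C) : Type u := j.1.CC

noncomputable def trB {j k : J A B C} (h : j ≤ k) : FB j →ₐ[A] FB k :=
  tr (Raw.WB_mono h) (Raw.TB_mono h)
noncomputable def trC {j k : J A B C} (h : j ≤ k) : FC j →ₐ[A] FC k :=
  tr (Raw.WC_mono h) (Raw.TCC_mono h)

theorem trB_refl (j : J A B C) (x : FB j) : trB (le_refl j) x = x := tr_refl x
theorem trC_refl (j : J A B C) (x : FC j) : trC (le_refl j) x = x := tr_refl x
theorem trB_trans {j k l : J A B C} (h1 : j ≤ k) (h2 : k ≤ l) (x : FB j) :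
    trB h2 (trB h1 x) = trB (h1.trans h2) x := tr_trans _ _ _ _ x
theorem trC_trans {j k l : J A B C} (h1 : j ≤ k) (h2 : k ≤ l) (x : FC j) :
    trC h2 (trC h1 x) = trC (h1.trans h2) x := tr_trans _ _ _ _ x

theorem evC_TCC (j : J A B C) : ∀ t ∈ j.1.TCC, evC A B C t = 0 := by
  intro t ht
  rcases Finset.mem_union.mp ht with h | h
  · exact (j.2.2.1 t h).2
  · rw [evC_eq_evB t (j.2.1 t h).1, (j.2.1 t h).2, map_zero]

noncomputable def toB (j : J A B C) : FB j →ₐ[A] B :=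
  toE (evB A B C) (fun t ht => (j.2.1 t ht).2)
noncomputable def toC (j : J A B C) : FC j →ₐ[A] C :=
  toE (evC A B C) (evC_TCC j)

theorem toB_tr {j k : J A B C} (h : j ≤ k) (x : FB j) : toB k (trB h x) = toB j x :=
  toE_tr _ _ _ _ _ x
theorem toC_tr {j k : J A B C} (h : j ≤ k) (x : FC j) : toC k (trC h x) = toC j x :=
  toE_tr _ _ _ _ _ x

noncomputable def phi (j : J A B C) : FB j →ₐ[A] FC j := j.1.phi

theorem phi_tr {j k : J A B C} (h : j ≤ k) (x : FB j) :
    phi k (trB h x) = trC h (phi j x) := by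
  obtain ⟨⟨q, hq⟩, rfl⟩ := mkq_surjective _ _ x
  simp only [phi, Raw.phi, trB, trC, tr_mkq]

theorem toC_phi (j : J A B C) (x : FB j) : toC j (phi j x) = algebraMap B C (toB j x) := by
  obtain ⟨⟨q, hq⟩, rfl⟩ := mkq_surjective _ _ x
  simp only [phi, Raw.phi, toC, toB, tr_mkq, toE_mkq]
  exact evC_eq_evB q hq

variable (A B C)
noncomputable def DB : J A B C ⥤ Under (CommRingCat.of A) :=
  dirF (fun j : J A B C => FB j) trB trB_refl trB_trans
noncomputable def DC : J A B C ⥤ Under (CommRingCat.of A) :=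
  dirF (fun j : J A B C => FC j) trC trC_refl trC_trans
noncomputable def coneB : Limits.Cocone (DB A B C) :=
  dirCocone (fun j : J A B C => FB j) trB trB_refl trB_trans toB toB_tr
noncomputable def coneC : Limits.Cocone (DC A B C) :=
  dirCocone (fun j : J A B C => FC j) trC trC_refl trC_trans toC toC_tr
noncomputable def natPhi : DB A B C ⟶ DC A B C :=
  dirNat _ _ trB trC trB_refl trB_trans trC_refl trC_trans phi phi_tr

end defs

end Groth.Agent.H15.IntPair
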