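import Mathlib
import Groth.Agent.H69.DirColim
import Groth.Agent.H15.NilPair.Base
import Groth.Agent.H15.NilPair.Sys
import Groth.Agent.H15.IntPair.Sys

set_option autoImplicit false
universe u
open CategoryTheory MvPolynomial Limits

namespace Groth.Agent.H15.IntPair
open Groth.Agent.H69
open Groth.Agent.H15.NilPair (PS IT Cq mkq mkq_surjective mkq_eq_zero mkq_eq_zero_iff mkq_eq fp tr tr_mkq
  tr_refl tr_trans toE toE_mkq toE_tr gen_top X_mem_PS PS_mono dirNat)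
open scoped Classical

section transfer
variable {A B C : Type u} [CommRing A]

theorem nil_transfer_B {j k : Raw A B C} (h : j ≤ k) (q : MvPolynomial (B ⊕ C) A)
    (hq : q ∈ PS A j.WB) (hn : IsNilpotent (mkq j.WB j.TB ⟨q, hq⟩)) :
    IsNilpotent (mkq k.WB k.TB ⟨q, PS_mono (Raw.WB_mono h) hq⟩) := by
  have := hn.map (tr (A := A) (Raw.WB_mono h) (Raw.TB_mono h))
  rwa [tr_mkq] at this

theorem int_transfer_B {j k : Raw A B C} (h : j ≤ k) (q : MvPolynomial (B ⊕ C) A)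
    (hq : q ∈ PS A j.WB) (hn : (algebraMap A j.CB).IsIntegralElem (mkq j.WB j.TB ⟨q, hq⟩)) :
    (algebraMap A k.CB).IsIntegralElem (mkq k.WB k.TB ⟨q, PS_mono (Raw.WB_mono h) hq⟩) := by
  have h1 : IsIntegral A (mkq j.WB j.TB ⟨q, hq⟩) := hn
  have h2 := h1.map (tr (A := A) (Raw.WB_mono h) (Raw.TB_mono h))
  rw [tr_mkq] at h2
  exact h2

theorem int_transfer_C {j k : Raw A B C} (h : j ≤ k) (q : MvPolynomial (B ⊕ C) A)
    (hq : q ∈ PS A j.WC) (hn : (algebraMap A j.CC).IsIntegralElem (mkq j.WC j.TCC ⟨q, hq⟩)) :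
    (algebraMap A k.CC).IsIntegralElem (mkq k.WC k.TCC ⟨q, PS_mono (Raw.WC_mono h) hq⟩) := by
  have h1 : IsIntegral A (mkq j.WC j.TCC ⟨q, hq⟩) := hn
  have h2 := h1.map (tr (A := A) (Raw.WC_mono h) (Raw.TCC_mono h))
  rw [tr_mkq] at h2
  exact h2

theorem bot_transfer_B {j k : Raw A B C} (h : j ≤ k) (q : MvPolynomial (B ⊕ C) A)
    (hq : q ∈ PS A j.WB) (hn : mkq j.WB j.TB ⟨q, hq⟩ ∈ (⊥ : Subalgebra A j.CB)) :
    mkq k.WB k.TB ⟨q, PS_mono (Raw.WB_mono h) hq⟩ ∈ (⊥ : Subalgebra A k.CB) := by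
  obtain ⟨a, ha⟩ := Algebra.mem_bot.mp hn
  rw [← tr_mkq (A := A) (Raw.WB_mono h) (Raw.TB_mono h) q hq, ← ha, AlgHom.commutes]
  exact Subalgebra.algebraMap_mem _ a

theorem bot_transfer_C {j k : Raw A B C} (h : j ≤ k) (q : MvPolynomial (B ⊕ C) A)
    (hq : q ∈ PS A j.WC) (hn : mkq j.WC j.TCC ⟨q, hq⟩ ∈ (⊥ : Subalgebra A j.CC)) :
    mkq k.WC k.TCC ⟨q, PS_mono (Raw.WC_mono h) hq⟩ ∈ (⊥ : Subalgebra A k.CC) := by
  obtain ⟨a, ha⟩ := Algebra.mem_bot.mp hn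
  rw [← tr_mkq (A := A) (Raw.WC_mono h) (Raw.TCC_mono h) q hq, ← ha, AlgHom.commutes]
  exact Subalgebra.algebraMap_mem _ a

end transfer

variable {A B C : Type u} [CommRing A] [CommRing B] [CommRing C] [Algebra A B] [Algebra A C]
  [Algebra B C] [IsScalarTower A B C]

theorem ker_B : ∀ (j : J A B C) (x : FB j), toB j x = 0 → ∃ (k : J A B C) (h : j ≤ k), trB h x = 0 := by
  intro j x hx
  obtain ⟨⟨g, hg⟩, rfl⟩ := mkq_surjective _ _ x
  simp only [toB, toE_mkq] at hx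
  let k : Raw A B C := ⟨j.1.Z, j.1.S, insert g j.1.TB, j.1.TC⟩
  have hjk : j.1 ≤ k := ⟨subset_rfl, subset_rfl, Finset.subset_insert _ _, subset_rfl⟩
  have hk : Valid k := by
    refine ⟨?_, ?_, ?_, ?_, ?_, ?_, ?_, ?_⟩
    · intro t ht
      rcases Finset.mem_insert.mp ht with rfl | ht
      · exact ⟨hg, hx⟩
      · exact j.2.1 t ht
    · exact j.2.2.1
    · intro b hb
      exact int_transfer_B hjk (X (Sum.inl b)) _ (j.2.2.2.1 b hb)
    · intro c hc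
      exact int_transfer_C hjk (X (Sum.inr c)) _ (j.2.2.2.2.1 c hc)
    · intro h b hb
      exact bot_transfer_B hjk (X (Sum.inl b)) _ (j.2.2.2.2.2.1 h b hb)
    · exact j.2.2.2.2.2.2.1
    · intro h b hb
      exact bot_transfer_C hjk (X (Sum.inl b)) _ (j.2.2.2.2.2.2.2.1 h b hb)
    · intro h hn x hx'
      exact nil_transfer_B hjk x.1 x.2 (j.2.2.2.2.2.2.2.2 h hn ⟨x.1, x.2⟩ hx')
  refine ⟨⟨k, hk⟩, hjk, ?_⟩
  simp only [trB, tr_mkq]
  exact mkq_eq_zero _ (Finset.mem_insert_self _ _)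

end Groth.Agent.H15.IntPair
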