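import Mathlib
import Groth.Agent.H69.DirColim
import Groth.Agent.H15.NilPair.Base
import Groth.Agent.H15.NilPair.Sys
import Groth.Agent.H15.NilPair.KD
import Groth.Agent.H15.IntPair.Sys

set_option autoImplicit false
universe u
open CategoryTheory MvPolynomial Limits

namespace Groth.Agent.H15.IntPair
open Groth.Agent.H69
open Groth.Agent.H15.NilPair (PS IT Cq mkq mkq_surjective mkq_eq_zero mkq_eq_zero_iff mkq_eq fp tr tr_mkq
  tr_refl tr_trans toE toE_mkq toE_tr gen_top X_mem_PS PS_mono dirNat nil_mkq_of_pow_mem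
  exists_pow_succ_eq_zero)
open scoped Classical

variable {A B C : Type u} [CommRing A] [CommRing B] [CommRing C] [Algebra A B] [Algebra A C]
  [Algebra B C] [IsScalarTower A B C]

theorem evB_X_inl (b : B) : evB A B C (X (Sum.inl b)) = b := by
  simp [evB]

theorem evC_X_inl (b : B) : evC A B C (X (Sum.inl b)) = algebraMap B C b := by
  simp [evC]

/-- Validity of a one-variable index. -/
theorem valid_single (b : B) (p : Polynomial A) (hp : p.Monic) (hp0 : Polynomial.aeval b p = 0)
    (E TCs : Finset (MvPolynomial (B ⊕ C) A))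
    (hE : ∀ t ∈ E, t ∈ PS A (({b} : Finset B).disjSum (∅ : Finset C)) ∧ evB A B C t = 0)
    (hT : ∀ t ∈ TCs, t ∈ PS A (({b} : Finset B).disjSum (∅ : Finset C)) ∧ evC A B C t = 0)
    (h5 : Function.Surjective (algebraMap A B) → ∃ a : A,
      (X (Sum.inl b) - MvPolynomial.C a : MvPolynomial (B ⊕ C) A) ∈
        insert (Polynomial.aeval (X (Sum.inl b) : MvPolynomial (B ⊕ C) A) p) E)
    (h7 : Function.Surjective (algebraMap A C) → ∃ a : A,
      (X (Sum.inl b) - MvPolynomial.C a : MvPolynomial (B ⊕ C) A) ∈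
        TCs ∪ insert (Polynomial.aeval (X (Sum.inl b) : MvPolynomial (B ⊕ C) A) p) E)
    (h8 : Function.Surjective (algebraMap B C) → IsNilpotent (RingHom.ker (algebraMap B C)) →
      ∀ t ∈ TCs, ∃ n : ℕ, t ^ (n + 1) ∈
        insert (Polynomial.aeval (X (Sum.inl b) : MvPolynomial (B ⊕ C) A) p) E) :
    Valid (⟨{b}, ∅, insert (Polynomial.aeval (X (Sum.inl b) : MvPolynomial (B ⊕ C) A) p) E, TCs⟩ :
      Raw A B C) := by
  set r : MvPolynomial (B ⊕ C) A := Polynomial.aeval (X (Sum.inl b) : MvPolynomial (B ⊕ C) A) p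
    with hrdef
  set j : Raw A B C := ⟨{b}, ∅, insert r E, TCs⟩ with hj
  have hXb : (X (Sum.inl b) : MvPolynomial (B ⊕ C) A) ∈ PS A j.WB :=
    X_mem_PS (Raw.inl_mem_WB (j := j) (Finset.mem_singleton_self b))
  have hXc : (X (Sum.inl b) : MvPolynomial (B ⊕ C) A) ∈ PS A j.WC :=
    X_mem_PS (Raw.inl_mem_WC (j := j) (Finset.mem_singleton_self b))
  have hr_coe : ((Polynomial.aeval (⟨X (Sum.inl b), hXb⟩ : PS A j.WB) p : PS A j.WB) :
      MvPolynomial (B ⊕ C) A) = r := Polynomial.aeval_subalgebra_coe p _ _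
  have hr : r ∈ PS A j.WB := by
    rw [← hr_coe]; exact Subtype.property _
  have hCa : ∀ a : A, (MvPolynomial.C a : MvPolynomial (B ⊕ C) A) ∈ PS A j.WB := fun a =>
    Subalgebra.algebraMap_mem _ a
  -- key: a relation `X - C a` in the relation set gives `mkq X = algebraMap a`
  have keyB : ∀ a : A, (X (Sum.inl b) - MvPolynomial.C a : MvPolynomial (B ⊕ C) A) ∈ j.TB →
      mkq j.WB j.TB ⟨X (Sum.inl b), hXb⟩ = algebraMap A j.CB a := by
    intro a ha
    have h1 := mkq_eq (S := j.WB) (T := j.TB) ⟨X (Sum.inl b), hXb⟩ ⟨MvPolynomial.C a, hCa a⟩ ha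
    rw [h1]
    exact (mkq j.WB j.TB).commutes a
  have keyC : ∀ a : A, (X (Sum.inl b) - MvPolynomial.C a : MvPolynomial (B ⊕ C) A) ∈ j.TCC →
      mkq j.WC j.TCC ⟨X (Sum.inl b), hXc⟩ = algebraMap A j.CC a := by
    intro a ha
    have h1 := mkq_eq (S := j.WC) (T := j.TCC) ⟨X (Sum.inl b), hXc⟩
      ⟨MvPolynomial.C a, Subalgebra.algebraMap_mem _ a⟩ ha
    rw [h1]
    exact (mkq j.WC j.TCC).commutes a
  refine ⟨?_, ?_, ?_, ?_, ?_, ?_, ?_, ?_⟩
  · intro t ht
    rcases Finset.mem_insert.mp ht with rfl | ht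
    · refine ⟨hr, ?_⟩
      rw [hrdef, ← Polynomial.aeval_algHom_apply, evB_X_inl, hp0]
    · exact hE t ht
  · intro t ht
    exact hT t ht
  · intro b' hb'
    obtain rfl : b' = b := Finset.mem_singleton.mp hb'
    refine ⟨p, hp, ?_⟩
    rw [← Polynomial.aeval_def]
    have h2 : Polynomial.aeval (mkq j.WB j.TB ⟨X (Sum.inl b'), hXb⟩) p =
        mkq j.WB j.TB (Polynomial.aeval (⟨X (Sum.inl b'), hXb⟩ : PS A j.WB) p) :=
      Polynomial.aeval_algHom_apply _ _ _
    rw [h2]
    apply mkq_eq_zero
    rw [hr_coe]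
    exact Finset.mem_insert_self _ _
  · intro c hc
    exact absurd hc (Finset.notMem_empty c)
  · intro h b' hb'
    obtain rfl : b' = b := Finset.mem_singleton.mp hb'
    obtain ⟨a, ha⟩ := h5 h
    rw [keyB a ha]
    exact Subalgebra.algebraMap_mem _ a
  · intro _
    rfl
  · intro h b' hb'
    obtain rfl : b' = b := Finset.mem_singleton.mp hb'
    obtain ⟨a, ha⟩ := h7 h
    rw [keyC a ha]
    exact Subalgebra.algebraMap_mem _ a
  · intro h hn x hx
    obtain ⟨n, hn'⟩ := h8 h hn _ hx
    exact nil_mkq_of_pow_mem (x : MvPolynomial (B ⊕ C) A) x.2 n hn'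

theorem surj_B [Algebra.IsIntegral A B] : ∀ b : B, ∃ (j : J A B C) (x : FB j), toB j x = b := by
  intro b
  obtain ⟨p, hp, hp0'⟩ := Algebra.IsIntegral.isIntegral (R := A) b
  have hp0 : Polynomial.aeval b p = 0 := by rw [Polynomial.aeval_def]; exact hp0'
  have hXmem : (X (Sum.inl b) : MvPolynomial (B ⊕ C) A) ∈
      PS A (({b} : Finset B).disjSum (∅ : Finset C)) :=
    X_mem_PS (Finset.inl_mem_disjSum.mpr (Finset.mem_singleton_self b))
  have hsub : ∀ a : A, (X (Sum.inl b) - MvPolynomial.C a : MvPolynomial (B ⊕ C) A) ∈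
      PS A (({b} : Finset B).disjSum (∅ : Finset C)) := fun a =>
    Subalgebra.sub_mem _ hXmem (Subalgebra.algebraMap_mem _ a)
  -- it suffices to produce a valid single index
  suffices h : ∃ (E TCs : Finset (MvPolynomial (B ⊕ C) A)),
      Valid (⟨{b}, ∅, insert (Polynomial.aeval (X (Sum.inl b) : MvPolynomial (B ⊕ C) A) p) E, TCs⟩ :
        Raw A B C) by
    obtain ⟨E, TCs, hv⟩ := h
    refine ⟨⟨_, hv⟩, mkq _ _ ⟨X (Sum.inl b), X_mem_PS (Raw.inl_mem_WB
      (Finset.mem_singleton_self b))⟩, ?_⟩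
    simp only [toB, toE_mkq, evB_X_inl]
  by_cases ma : Function.Surjective (algebraMap A B)
  · obtain ⟨a, ha⟩ := ma b
    refine ⟨{X (Sum.inl b) - MvPolynomial.C a}, ∅, valid_single b p hp hp0 _ _ ?_ ?_ ?_ ?_ ?_⟩
    · intro t ht
      obtain rfl := Finset.mem_singleton.mp ht
      refine ⟨hsub a, ?_⟩
      rw [map_sub, evB_X_inl]
      simp [evB, ha]
    · intro t ht; exact absurd ht (Finset.notMem_empty t)
    · intro _
      exact ⟨a, Finset.mem_insert_of_mem (Finset.mem_singleton_self _)⟩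
    · intro _
      exact ⟨a, Finset.mem_union_right _ (Finset.mem_insert_of_mem (Finset.mem_singleton_self _))⟩
    · intro _ _ t ht; exact absurd ht (Finset.notMem_empty t)
  · by_cases mc : Function.Surjective (algebraMap A C)
    · obtain ⟨a', ha'⟩ := mc (algebraMap B C b)
      have hevC : evC A B C (X (Sum.inl b) - MvPolynomial.C a') = 0 := by
        rw [map_sub, evC_X_inl]
        simp [evC, ha']
      by_cases me : Function.Surjective (algebraMap B C) ∧
          IsNilpotent (RingHom.ker (algebraMap B C))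
      · have he : b - algebraMap A B a' ∈ RingHom.ker (algebraMap B C) := by
          rw [RingHom.mem_ker, map_sub, ← IsScalarTower.algebraMap_apply, ha', sub_self]
        obtain ⟨N, hN⟩ := me.2
        have hpow : (b - algebraMap A B a') ^ (N + 1) = 0 := by
          have h1 : (b - algebraMap A B a') ^ N ∈ (RingHom.ker (algebraMap B C)) ^ N :=
            Ideal.pow_mem_pow he N
          rw [hN] at h1
          have h2 : (b - algebraMap A B a') ^ N = 0 := by simpa using h1
          rw [pow_succ, h2, zero_mul]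
        refine ⟨{(X (Sum.inl b) - MvPolynomial.C a') ^ (N + 1)}, {X (Sum.inl b) - MvPolynomial.C a'},
          valid_single b p hp hp0 _ _ ?_ ?_ ?_ ?_ ?_⟩
        · intro t ht
          obtain rfl := Finset.mem_singleton.mp ht
          refine ⟨Subalgebra.pow_mem _ (hsub a') _, ?_⟩
          rw [map_pow, map_sub, evB_X_inl]
          simpa [evB] using hpow
        · intro t ht
          obtain rfl := Finset.mem_singleton.mp ht
          exact ⟨hsub a', hevC⟩
        · intro h; exact absurd h ma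
        · intro _
          exact ⟨a', Finset.mem_union_left _ (Finset.mem_singleton_self _)⟩
        · intro _ _ t ht
          obtain rfl := Finset.mem_singleton.mp ht
          exact ⟨N, Finset.mem_insert_of_mem (Finset.mem_singleton_self _)⟩
      · refine ⟨∅, {X (Sum.inl b) - MvPolynomial.C a'},
          valid_single b p hp hp0 _ _ ?_ ?_ ?_ ?_ ?_⟩
        · intro t ht; exact absurd ht (Finset.notMem_empty t)
        · intro t ht
          obtain rfl := Finset.mem_singleton.mp ht
          exact ⟨hsub a', hevC⟩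
        · intro h; exact absurd h ma
        · intro _
          exact ⟨a', Finset.mem_union_left _ (Finset.mem_singleton_self _)⟩
        · intro h hn; exact absurd ⟨h, hn⟩ me
    · refine ⟨∅, ∅, valid_single b p hp hp0 _ _ ?_ ?_ ?_ ?_ ?_⟩
      · intro t ht; exact absurd ht (Finset.notMem_empty t)
      · intro t ht; exact absurd ht (Finset.notMem_empty t)
      · intro h; exact absurd h ma
      · intro h; exact absurd h mc
      · intro _ _ t ht; exact absurd ht (Finset.notMem_empty t)

end Groth.Agent.H15.IntPair
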